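import Groth.Agent.An29.Chart

/-! The hyperplanes which are not transversal somewhere in a chart satisfy an equation. -/

set_option autoImplicit false

universe u

open TensorProduct KaehlerDifferential MvPolynomial

namespace Groth.Agent.An29

variable (k : Type u) [Field k] {A : Type u} [CommRing A] [Algebra k A] {n r : ℕ}

/-- The linear function with coefficients `a`. -/
noncomputable def hyp (x : Fin n → A) (a : Fin (n + 1) → k) : A :=
  algebraMap k A (a 0) + ∑ i : Fin n, algebraMap k A (a i.succ) * x i

variable {k}

theorem D_hyp {B : Type u} [CommRing B] [Algebra A B] [Algebra k B] [IsScalarTower k A B]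
    (x : Fin n → A) (a : Fin (n + 1) → k) :
    D k B (algebraMap A B (hyp k x a)) =
      ∑ i, algebraMap k B (a i.succ) • D k B (algebraMap A B (x i)) := by
  simp only [hyp, map_add, map_sum, map_mul, ← IsScalarTower.algebraMap_apply, Derivation.map_algebraMap,
    Derivation.leibniz, smul_zero, add_zero, zero_add]

variable (k)

theorem exists_bad_poly [Algebra.FiniteType k A] (x : Fin n → A) (c : Chart k r x) :
    ∃ P : MvPolynomial (Fin (n + 1)) k, P ≠ 0 ∧ ∀ (a : Fin (n + 1) → k) (q : Ideal c.B), q.IsPrime →
      algebraMap A c.B (hyp k x a) ∈ q →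
      (∀ s, c.basis.repr (D k c.B (algebraMap A c.B (hyp k x a))) s ∈ q) → MvPolynomial.eval a P = 0 := by
  classical
  by_cases hB : Subsingleton c.B
  · exact ⟨1, one_ne_zero, fun a q hq _ _ => absurd (Subsingleton.elim q ⊤) hq.ne_top⟩
  haveI : Nontrivial c.B := not_subsingleton_iff_nontrivial.1 hB
  haveI : Algebra.FinitePresentation A c.B := IsLocalization.Away.finitePresentation c.g
  haveI : Algebra.FiniteType k c.B := Algebra.FiniteType.trans (S := A) ‹_› inferInstance
  have hσ : Function.Injective c.σ := fun s t h => c.basis.injective (by rw [c.basis_eq, c.basis_eq, h])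
  let J : Type u := ULift.{u} {j : Fin n // j ∉ Set.range c.σ}
  let co : Fin n → Fin r → c.B := fun j s => c.basis.repr (D k c.B (algebraMap A c.B (x j))) s
  let lin : Fin n → MvPolynomial J c.B := fun j =>
    if h : j ∈ Set.range c.σ then -∑ i : J, C (co i.down.1 h.choose) * X i else X ⟨⟨j, h⟩⟩
  let T : Fin (n + 1) → MvPolynomial J c.B :=
    Fin.cons (-∑ j, lin j * C (algebraMap A c.B (x j))) lin
  let ρ : MvPolynomial (Fin (n + 1)) k →ₐ[k] MvPolynomial J c.B := aeval T
  have hni : ¬ Function.Injective ρ := by
    intro hinj
    haveI : Algebra.FiniteType k (MvPolynomial J c.B) := Algebra.FiniteType.trans (S := c.B) ‹_› inferInstance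
    have hcard : Fintype.card (Fin r ⊕ J) = n := by
      rw [Fintype.card_sum, Fintype.card_fin, Fintype.card_ulift, Fintype.card_subtype_compl]
      have h1 : Fintype.card {j : Fin n // j ∈ Set.range c.σ} = r := by
        rw [← Fintype.card_congr (Equiv.ofInjective c.σ hσ), Fintype.card_fin]
      rw [h1, Fintype.card_fin]
      have := Fintype.card_le_of_injective c.σ hσ
      simp only [Fintype.card_fin] at this
      omega
    let e := (Fintype.equivFinOfCardEq hcard).symm
    let v := Sum.elim (fun s => map k k c.B (MvPolynomial J c.B) (c.basis s))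
      (fun j : J => D k (MvPolynomial J c.B) (X j))
    have hv : Submodule.span (MvPolynomial J c.B) (Set.range (v ∘ e)) = ⊤ := by
      rw [Set.range_comp, e.range_eq_univ, Set.image_univ]
      exact Var76.BertiniAlg.span_mvPolynomial (k := k) c.basis c.basis.span_eq
    have := Var76.KaehlerGen.le_of_injective k (MvPolynomial J c.B) ρ hinj (v ∘ e) hv
    omega
  rw [injective_iff_map_eq_zero] at hni
  push Not at hni
  obtain ⟨P, hP, hP0⟩ := hni
  refine ⟨P, hP0, fun a q hq hφ hrep => ?_⟩
  haveI := hq
  let θ : MvPolynomial J c.B →ₐ[c.B] q.ResidueField :=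
    aeval fun i : J => algebraMap k q.ResidueField (a i.down.1.succ)
  have hsum : ∀ s, ∑ j, algebraMap k q.ResidueField (a j.succ) * algebraMap c.B q.ResidueField (co j s) = 0 := by
    intro s
    have h := Ideal.algebraMap_residueField_eq_zero.2 (hrep s)
    rw [D_hyp, map_sum, Finsupp.finsetSum_apply, map_sum] at h
    simp only [map_smul, Finsupp.smul_apply, smul_eq_mul, map_mul, ← IsScalarTower.algebraMap_apply] at h
    exact h
  have hlin : ∀ j, θ (lin j) = algebraMap k q.ResidueField (a j.succ) := by
    intro j
    by_cases h : j ∈ Set.range c.σ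
    · have key := hsum h.choose
      rw [← Fintype.sum_subtype_add_sum_subtype (fun i => i ∈ Set.range c.σ)] at key
      have h1 : ∑ i : {i // i ∈ Set.range c.σ}, algebraMap k q.ResidueField (a i.1.succ) *
          algebraMap c.B q.ResidueField (co i.1 h.choose) = algebraMap k q.ResidueField (a j.succ) := by
        rw [Finset.sum_eq_single ⟨j, h⟩]
        · have : co j h.choose = 1 := by
            show c.basis.repr (D k c.B (algebraMap A c.B (x j))) h.choose = 1
            conv_lhs => arg 1; rw [← h.choose_spec, ← c.basis_eq, Module.Basis.repr_self]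
            simp
          rw [this, map_one, mul_one]
        · rintro ⟨i, t, rfl⟩ - hne
          have : co (c.σ t) h.choose = 0 := by
            show c.basis.repr (D k c.B (algebraMap A c.B (x (c.σ t)))) h.choose = 0
            rw [← c.basis_eq, Module.Basis.repr_self, Finsupp.single_eq_of_ne]
            exact fun e => hne (Subtype.ext ((congrArg c.σ e).symm.trans h.choose_spec))
          rw [this, map_zero, mul_zero]
        · simp
      have key' : algebraMap k q.ResidueField (a j.succ) + ∑ i : {i // i ∉ Set.range c.σ},
          algebraMap k q.ResidueField (a i.1.succ) * algebraMap c.B q.ResidueField (co i.1 h.choose) = 0 := by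
        rw [← h1]
        convert key
      have h2 : ∑ i : J, algebraMap c.B q.ResidueField (co i.down.1 h.choose) *
          algebraMap k q.ResidueField (a i.down.1.succ) = - algebraMap k q.ResidueField (a j.succ) := by
        rw [eq_neg_iff_add_eq_zero, add_comm, ← key']
        congr 1
        exact Fintype.sum_equiv Equiv.ulift _ _ fun i => mul_comm _ _
      simp only [lin, dif_pos h, θ, map_neg, map_sum, map_mul, aeval_C, aeval_X]
      rw [h2, neg_neg]
    · simp only [lin, dif_neg h, θ, aeval_X]
  have hT : ∀ j, θ (T j) = algebraMap k q.ResidueField (a j) := by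
    intro j
    cases j using Fin.cases with
    | zero =>
      have h := Ideal.algebraMap_residueField_eq_zero.2 hφ
      simp only [hyp, map_add, map_sum, map_mul, ← IsScalarTower.algebraMap_apply] at h
      rw [add_eq_zero_iff_eq_neg] at h
      simp only [T, Fin.cons_zero, map_neg, map_sum, map_mul, hlin, θ, aeval_C]
      rw [h]
      refine congrArg Neg.neg (Finset.sum_congr rfl fun i _ => ?_)
      rw [← IsScalarTower.algebraMap_apply]
    | succ j => simp only [T, Fin.cons_succ, hlin]
  have hcomp : (θ.restrictScalars k).comp ρ = (Algebra.ofId k q.ResidueField).comp (aeval a) :=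
    MvPolynomial.algHom_ext fun j => by
      show θ (ρ (X j)) = algebraMap k q.ResidueField (aeval a (X j))
      simp [ρ, hT]
  have := AlgHom.congr_fun hcomp P
  rw [AlgHom.comp_apply, hP, map_zero, AlgHom.comp_apply] at this
  exact (algebraMap k q.ResidueField).injective (this.symm.trans (map_zero _).symm)

end Groth.Agent.An29
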