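import Groth.Agent.CAlg1.SmoothKaehlerDim
import Groth.Agent.Var76.BertiniAlg
import Mathlib.RingTheory.Etale.Kaehler

/-! Coordinate charts at smooth points of an equidimensional affine variety. -/

set_option autoImplicit false

universe u

open TensorProduct KaehlerDifferential

namespace Groth.Agent.An29

variable (k : Type u) [Field k] {A : Type u} [CommRing A] [Algebra k A]

theorem span_of_surjective {n : ℕ} (x : Fin n → A)
    (hx : Function.Surjective (MvPolynomial.aeval x : MvPolynomial (Fin n) k →ₐ[k] A)) :
    Submodule.span A (Set.range fun j => D k A (x j)) = ⊤ := by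
  rw [eq_top_iff, ← span_range_derivation k A, Submodule.span_le]
  rintro _ ⟨a, rfl⟩
  obtain ⟨P, rfl⟩ := hx a
  induction P using MvPolynomial.induction_on with
  | C c =>
    rw [MvPolynomial.aeval_C, Derivation.map_algebraMap]
    exact Submodule.zero_mem _
  | add f g hf hg => rw [map_add, map_add]; exact Submodule.add_mem _ hf hg
  | mul_X f j hf =>
    rw [map_mul, MvPolynomial.aeval_X, Derivation.leibniz]
    exact Submodule.add_mem _ (Submodule.smul_mem _ _ (Submodule.subset_span ⟨j, rfl⟩))
      (Submodule.smul_mem _ _ hf)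

theorem finrank_fibre_eq [Algebra.FiniteType k A] (r : ℕ)
    (hdim : ∀ P ∈ minimalPrimes A, ringKrullDim (A ⧸ P) = r) (p : Ideal A) [p.IsPrime]
    [Algebra.IsSmoothAt k p] :
    Module.finrank p.ResidueField (p.ResidueField ⊗[A] Ω[A⁄k]) = r := by
  have htr : ∀ P ∈ minimalPrimes A, CAlgH2.trdegQuot k P = r := by
    intro P hP
    haveI := hP.1.1
    haveI : Algebra.FiniteType k (A ⧸ P) :=
      Algebra.FiniteType.of_surjective (Ideal.Quotient.mkₐ k P) Ideal.Quotient.mk_surjective
    have h := E4O.ringKrullDim_eq_trdeg k (A ⧸ P)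
    rw [hdim P hP] at h
    have := h.symm
    rw [CAlgH2.trdegQuot, E4O.trdeg_eq_natCast k (A ⧸ P)] at *
    simpa using this
  apply le_antisymm
  · exact (CAlg1.le_dimAt_of_isSmoothAt k p).trans (CAlgH2.dimAt_le k fun P hP _ => (htr P hP).le)
  · obtain ⟨P, hP, hle⟩ := Ideal.exists_minimalPrimes_le (I := (⊥ : Ideal A)) (J := p) bot_le
    haveI := hP.1.1
    have h := Var76.KaehlerFibre.ringKrullDim_quotient_le_finrank k A p P hle
    rw [hdim P hP] at h
    exact_mod_cast h

/-- A chart: a localisation of `A` on which some of the `D (x j)` form a basis. -/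
structure Chart {n : ℕ} (r : ℕ) (x : Fin n → A) where
  /-- The inverted element. -/
  g : A
  /-- The ring of the chart. -/
  B : Type u
  [ring : CommRing B]
  [algA : Algebra A B]
  [algk : Algebra k B]
  [tower : IsScalarTower k A B]
  [loc : IsLocalization.Away g B]
  [smooth : Algebra.Smooth k B]
  /-- The chosen coordinates. -/
  σ : Fin r → Fin n
  /-- The basis. -/
  basis : Module.Basis (Fin r) B Ω[B⁄k]
  basis_eq : ∀ s, basis s = D k B (algebraMap A B (x (σ s)))

attribute [instance] Chart.ring Chart.algA Chart.algk Chart.tower Chart.loc Chart.smooth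

theorem exists_subfamily_basis {K V ι : Type*} [Field K] [AddCommGroup V] [Module K V] [Fintype ι]
    (v : ι → V) (hv : Submodule.span K (Set.range v) = ⊤) {r : ℕ} (hr : Module.finrank K V = r) :
    ∃ σ : Fin r → ι, Submodule.span K (Set.range (v ∘ σ)) = ⊤ := by
  classical
  obtain ⟨t, hts, htspan, hli⟩ := exists_linearIndependent K (Set.range v)
  haveI : Fintype t := ((Set.finite_range v).subset hts).fintype
  let b : Module.Basis t K V := Module.Basis.mk hli (by rw [Subtype.range_coe, htspan, hv])
  have hcard : Fintype.card t = r := by rw [← hr, Module.finrank_eq_card_basis b]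
  let e : Fin r ≃ t := (Fintype.equivFinOfCardEq hcard).symm
  choose j hj using fun s : Fin r => hts (e s).2
  refine ⟨j, ?_⟩
  rw [eq_top_iff, ← hv, ← htspan, Submodule.span_le]
  intro z hz
  exact Submodule.subset_span ⟨e.symm ⟨z, hz⟩, by
    show v (j _) = z
    rw [hj, Equiv.apply_symm_apply]⟩

theorem exists_chart [Algebra.FiniteType k A] (r n : ℕ) (x : Fin n → A)
    (hx : Function.Surjective (MvPolynomial.aeval x : MvPolynomial (Fin n) k →ₐ[k] A))
    (hdim : ∀ P ∈ minimalPrimes A, ringKrullDim (A ⧸ P) = r) (p : Ideal A) [p.IsPrime]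
    [Algebra.IsSmoothAt k p] :
    ∃ c : Chart k r x, c.g ∉ p := by
  classical
  haveI : Algebra.FinitePresentation k A := Algebra.FinitePresentation.of_finiteType.mp ‹_›
  have hspan : Submodule.span p.ResidueField
      (Set.range fun j => (1 : p.ResidueField) ⊗ₜ[A] D k A (x j)) = ⊤ := by
    have := (Submodule.baseChange_span (R := A) (A := p.ResidueField)
      (s := Set.range fun j => D k A (x j))).symm
    rw [span_of_surjective k x hx, Submodule.baseChange_top, ← Set.range_comp] at this
    exact this
  obtain ⟨σ, hσ⟩ := exists_subfamily_basis _ hspan (finrank_fibre_eq k r hdim p)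
  obtain ⟨a, ha, hspanA⟩ := Var76.KaehlerFibre.exists_notMem_smul_le p (fun s => D k A (x (σ s))) hσ
  obtain ⟨f, hf, hfs⟩ := Algebra.IsSmoothAt.exists_notMem_isStandardSmooth (R := k) p
  set g := f * a
  have hg : g ∉ p := ‹p.IsPrime›.mul_notMem hf ha
  haveI := hfs
  obtain ⟨B, _, _, _, _, _, hBstd⟩ : ∃ (B : Type u) (_ : CommRing B) (_ : Algebra A B) (_ : Algebra k B)
      (_ : IsScalarTower k A B) (_ : IsLocalization.Away g B), Algebra.IsStandardSmooth k B := by
    let B := Localization.Away (algebraMap A (Localization.Away f) a)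
    haveI : IsLocalization.Away g B := IsLocalization.Away.mul' (Localization.Away f) B f a
    haveI : Algebra.IsStandardSmooth (Localization.Away f) B :=
      Algebra.IsStandardSmooth.localization_away (algebraMap A (Localization.Away f) a)
    exact ⟨B, inferInstance, inferInstance, inferInstance, inferInstance, inferInstance,
      Algebra.IsStandardSmooth.trans k (Localization.Away f) B⟩
  haveI := hBstd
  let w : Fin r → Ω[B⁄k] := fun s => map k k A B (D k A (x (σ s)))
  have hgen : Submodule.span B (Set.range w) = ⊤ := by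
    rw [eq_top_iff, ← span_range_map_derivation_of_isLocalization k A B (Submonoid.powers g), Submodule.span_le]
    rintro _ ⟨q, rfl⟩
    obtain ⟨u, hu⟩ := (IsLocalization.Away.algebraMap_isUnit (S := B) g).exists_left_inv
    have hm : a • D k A q ∈ Submodule.span A (Set.range fun s => D k A (x (σ s))) := hspanA _
    have hg' : g • map k k A B (D k A q) ∈ Submodule.span B (Set.range w) := by
      rw [← map_smul, show g = f * a from rfl, mul_smul]
      have := Submodule.mem_map_of_mem (f := map k k A B) (Submodule.smul_mem _ f hm)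
      rw [Submodule.map_span, ← Set.range_comp] at this
      exact Submodule.span_le_restrictScalars A B _ this
    have := Submodule.smul_mem _ u hg'
    show map k k A B (D k A q) ∈ Submodule.span B (Set.range w)
    rwa [← algebraMap_smul B g, smul_smul, hu, one_smul] at this
  haveI : Algebra.FormallyEtale A B := Algebra.FormallyEtale.of_isLocalization (Submonoid.powers g)
  let b₀ := Module.Free.chooseBasis B Ω[B⁄k]
  let eκ : Algebra B p.ResidueField := (IsLocalization.Away.lift g (show IsUnit (algebraMap A p.ResidueField g) from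
    isUnit_iff_ne_zero.mpr fun h => hg (Ideal.algebraMap_residueField_eq_zero.mp h))).toAlgebra
  letI := eκ
  haveI : IsScalarTower A B p.ResidueField :=
    IsScalarTower.of_algebraMap_eq fun s => (IsLocalization.Away.lift_eq g _ s).symm
  let e : p.ResidueField ⊗[A] Ω[A⁄k] ≃ₗ[p.ResidueField] p.ResidueField ⊗[B] Ω[B⁄k] :=
    (AlgebraTensorModule.cancelBaseChange A B p.ResidueField p.ResidueField _).symm ≪≫ₗ
      AlgebraTensorModule.congr (LinearEquiv.refl _ _) (tensorKaehlerEquivOfFormallyEtale k A B)
  haveI : Nontrivial B := (algebraMap B p.ResidueField).domain_nontrivial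
  have hcard : Fintype.card (Module.Free.ChooseBasisIndex B Ω[B⁄k]) = r := by
    rw [← finrank_fibre_eq k r hdim p, e.finrank_eq, Module.finrank_eq_card_basis (b₀.baseChange _)]
  let b₁ : Module.Basis (Fin r) B Ω[B⁄k] := b₀.reindex (Fintype.equivFinOfCardEq hcard)
  have hsurj : Function.Surjective (b₁.constr B w) := by
    rw [← LinearMap.range_eq_top, Module.Basis.constr_range, hgen]
  have hinj := OrzechProperty.injective_of_surjective_endomorphism _ hsurj
  let b : Module.Basis (Fin r) B Ω[B⁄k] := b₁.map (LinearEquiv.ofBijective _ ⟨hinj, hsurj⟩)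
  haveI : Algebra.Smooth k B := { formallySmooth := inferInstance, finitePresentation := inferInstance }
  have hb : ∀ s, b s = D k B (algebraMap A B (x (σ s))) := fun s => by
    simp [b, w, KaehlerDifferential.map_D]
  exact ⟨Chart.mk g B σ b hb, hg⟩

end Groth.Agent.An29
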