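import Groth.Agent.An29.Bad
import Mathlib.AlgebraicGeometry.Morphisms.Smooth

/-! A transversal hyperplane section of a chart is standard smooth of one dimension less. -/

set_option autoImplicit false

universe u

open TensorProduct KaehlerDifferential

namespace Groth.Agent.An29

variable {k : Type u} [Field k] {B : Type u} [CommRing B] [Algebra k B] [Algebra.Smooth k B]

/-- The quotient by an element whose differential is a basis member is standard smooth. -/
theorem isStandardSmooth_quotient {r : ℕ} (b : Module.Basis (Fin r) B Ω[B⁄k]) (z : Fin r → B)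
    (hb : ∀ s, b s = D k B (z s)) (φ : B) (t : Fin r) (ht : IsUnit (b.repr (D k B φ) t))
    [Nontrivial (B ⧸ Ideal.span {φ})] :
    Algebra.IsStandardSmoothOfRelativeDimension (r - 1) k (B ⧸ Ideal.span {φ}) := by
  classical
  let C := B ⧸ Ideal.span {φ}
  haveI : Algebra.Smooth k C := Var76.BertiniAlg.smooth_quotient φ fun n _ _ h0 => by
    have h := congrArg ((b.coord t).baseChange n.ResidueField) h0
    rw [LinearMap.baseChange_tmul, map_zero, Module.Basis.coord_apply] at h
    have h' := congrArg (TensorProduct.AlgebraTensorModule.rid B n.ResidueField n.ResidueField) h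
    rw [map_zero, TensorProduct.AlgebraTensorModule.rid_tmul, Algebra.smul_def, mul_one] at h'
    exact (ht.map (algebraMap B n.ResidueField)).ne_zero h'
  let c : Fin r → B := fun s => b.repr (D k B φ) s
  obtain ⟨ci, hci⟩ := ht.exists_left_inv
  let ι := {s : Fin r // s ≠ t}
  let co : B →ₗ[k] ι → C := LinearMap.pi fun s => (Ideal.Quotient.mkₐ k _).toLinearMap.comp
    (((b.coord s.1 - (c s.1 * ci) • b.coord t).restrictScalars k).comp (D k B).toLinearMap)
  have hco : ∀ y s, co y s = Ideal.Quotient.mk _ (b.repr (D k B y) s.1 - c s.1 * ci * b.repr (D k B y) t) :=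
    fun y s => rfl
  have hφ : ∀ y, co (φ * y) = 0 := fun y => funext fun s => by
    rw [hco, Pi.zero_apply, Ideal.Quotient.eq_zero_iff_mem, Derivation.leibniz, map_add, map_smul, map_smul]
    simp only [Finsupp.add_apply, Finsupp.smul_apply, smul_eq_mul]
    rw [show b.repr (D k B φ) s.1 = c s.1 from rfl, show b.repr (D k B φ) t = c t from rfl]
    refine Ideal.mem_span_singleton'.2 ⟨b.repr (D k B y) s.1 - c s.1 * ci * b.repr (D k B y) t, ?_⟩
    have : ci * c t = 1 := hci
    linear_combination (c s.1 * y) * this
  let co' : C →ₗ[k] ι → C := ((Ideal.span {φ} : Ideal B).restrictScalars k).liftQ co (by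
    intro y hy
    obtain ⟨a, rfl⟩ := Ideal.mem_span_singleton'.1 hy
    rw [LinearMap.mem_ker, mul_comm, hφ])
  let δ : Derivation k C (ι → C) := Derivation.mk' co' fun x y => by
    obtain ⟨x, rfl⟩ := Ideal.Quotient.mk_surjective x
    obtain ⟨y, rfl⟩ := Ideal.Quotient.mk_surjective y
    show co (x * y) = Ideal.Quotient.mk _ x • co y + Ideal.Quotient.mk _ y • co x
    funext s
    simp only [hco, Derivation.leibniz, map_add, map_smul, Finsupp.add_apply, Finsupp.smul_apply, smul_eq_mul,
      Pi.add_apply, Pi.smul_apply, ← map_mul, ← map_sub]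
    rw [← map_add]
    congr 1
    ring
  have hδ : ∀ s : ι, δ.liftKaehlerDifferential (D k C (Ideal.Quotient.mk _ (z s.1))) = Pi.single s 1 := by
    intro s
    rw [Derivation.liftKaehlerDifferential_comp_D]
    funext s'
    show co (z s.1) s' = _
    rw [hco, ← hb, Module.Basis.repr_self, Finsupp.single_eq_of_ne (Ne.symm s.2), mul_zero, sub_zero,
      Pi.single_apply, Finsupp.single_apply]
    split_ifs with h1 h2 h2
    · exact map_one _
    · exact absurd (Subtype.ext h1.symm) h2
    · exact absurd (congrArg Subtype.val h2).symm h1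
    · exact map_zero _
  let w : ι → Ω[C⁄k] := fun s => D k C (Ideal.Quotient.mk _ (z s.1))
  have hli : LinearIndependent C w := by
    refine LinearIndependent.of_comp δ.liftKaehlerDifferential ?_
    rw [show δ.liftKaehlerDifferential ∘ w = fun s => Pi.single s (1 : C) from funext hδ]
    exact Pi.linearIndependent_single_one ι C
  let π : Ω[B⁄k] →ₗ[B] Ω[C⁄k] := map k k B C
  have hπ : ∀ y, π (D k B y) = D k C (Ideal.Quotient.mk _ y) := fun y => map_D k k B C y
  have hspan : ⊤ ≤ Submodule.span C (Set.range w) := by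
    rw [← span_range_derivation k C, Submodule.span_le]
    rintro _ ⟨y, rfl⟩
    obtain ⟨y, rfl⟩ := Ideal.Quotient.mk_surjective y
    have hB : ∀ s, π (b s) ∈ Submodule.span C (Set.range w) := by
      intro s
      rcases eq_or_ne s t with rfl | hne
      · have hzero : π (D k B φ) = 0 := by
          rw [hπ, Ideal.Quotient.eq_zero_iff_mem.2 (Ideal.mem_span_singleton_self φ), map_zero]
        rw [← b.sum_repr (D k B φ), map_sum, ← Finset.add_sum_erase _ _ (Finset.mem_univ s), map_smul] at hzero
        have h1 : c s • π (b s) ∈ Submodule.span C (Set.range w) := by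
          rw [add_eq_zero_iff_eq_neg] at hzero
          rw [show c s • π (b s) = b.repr (D k B φ) s • π (b s) from rfl, hzero]
          refine Submodule.neg_mem _ (Submodule.sum_mem _ fun i hi => ?_)
          rw [map_smul, hb, hπ, ← algebraMap_smul C]
          exact Submodule.smul_mem _ _ (Submodule.subset_span ⟨⟨i, (Finset.mem_erase.1 hi).1⟩, rfl⟩)
        have h2 := Submodule.smul_mem _ (algebraMap B C ci) h1
        rwa [algebraMap_smul, smul_smul, show ci * c s = 1 from hci, one_smul] at h2
      · rw [hb, hπ]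
        exact Submodule.subset_span ⟨⟨s, hne⟩, rfl⟩
    show D k C _ ∈ Submodule.span C (Set.range w)
    rw [← hπ, ← b.sum_repr (D k B y), map_sum]
    refine Submodule.sum_mem _ fun s _ => ?_
    rw [map_smul, ← algebraMap_smul C]
    exact Submodule.smul_mem _ _ (hB s)
  let bC : Module.Basis ι C Ω[C⁄k] := Module.Basis.mk hli hspan
  haveI : Algebra.IsStandardSmooth k C := Algebra.IsStandardSmooth.of_basis_kaehlerDifferential bC (by
    rw [Module.Basis.coe_mk]
    rintro _ ⟨s, rfl⟩
    exact ⟨_, rfl⟩)
  rw [Algebra.IsStandardSmoothOfRelativeDimension.iff_of_isStandardSmooth, rank_eq_card_basis bC]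
  simp [ι, Fintype.card_subtype_compl]

variable {A : Type u} [CommRing A]

/-- A quotient of a localisation is the localisation of the quotient. -/
theorem isLocalization_quotient [Algebra A B] (g h : A) [IsLocalization.Away g B] :
    letI : Algebra (A ⧸ Ideal.span {h}) (B ⧸ Ideal.span {algebraMap A B h}) :=
      (Ideal.quotientMap _ (algebraMap A B) (Ideal.span_le.2 (Set.singleton_subset_iff.2
        (Ideal.mem_span_singleton_self _)))).toAlgebra
    IsLocalization.Away (Ideal.Quotient.mk (Ideal.span {h}) g) (B ⧸ Ideal.span {algebraMap A B h}) := by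
  letI : Algebra (A ⧸ Ideal.span {h}) (B ⧸ Ideal.span {algebraMap A B h}) :=
    (Ideal.quotientMap _ (algebraMap A B) (Ideal.span_le.2 (Set.singleton_subset_iff.2
      (Ideal.mem_span_singleton_self _)))).toAlgebra
  have hmap : ∀ a, algebraMap (A ⧸ Ideal.span {h}) (B ⧸ Ideal.span {algebraMap A B h}) (Ideal.Quotient.mk _ a) =
      Ideal.Quotient.mk _ (algebraMap A B a) := fun a => rfl
  refine IsLocalization.Away.mk _ ?_ ?_ ?_
  · rw [hmap]
    exact (IsLocalization.Away.algebraMap_isUnit g).map _
  · intro y
    obtain ⟨y, rfl⟩ := Ideal.Quotient.mk_surjective y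
    obtain ⟨m, a, ha⟩ := IsLocalization.Away.surj g y
    exact ⟨m, Ideal.Quotient.mk _ a, by rw [hmap, hmap, ← ha, map_mul, map_pow]⟩
  · intro a a' haa
    obtain ⟨a, rfl⟩ := Ideal.Quotient.mk_surjective a
    obtain ⟨a', rfl⟩ := Ideal.Quotient.mk_surjective a'
    rw [hmap, hmap, Ideal.Quotient.eq, Ideal.mem_span_singleton'] at haa
    obtain ⟨v, hv⟩ := haa
    obtain ⟨m, u, hu⟩ := IsLocalization.Away.surj g v
    have hz : algebraMap A B (u * h) = algebraMap A B (g ^ m * (a - a')) := by
      rw [map_mul, map_mul, map_pow, map_sub, ← hv, ← hu]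
      ring
    obtain ⟨m', hm'⟩ := IsLocalization.Away.exists_of_eq g hz
    refine ⟨m' + m, ?_⟩
    rw [← map_pow, ← map_mul, ← map_mul, Ideal.Quotient.eq]
    refine Ideal.mem_span_singleton'.2 ⟨g ^ m' * u, ?_⟩
    rw [pow_add]
    linear_combination hm'

end Groth.Agent.An29
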